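import Cfsg.Agent.H35.OnT.ONV1.RTab0

set_option autoImplicit false
set_option linter.all false

namespace Cfsg.Agent.H35

open Cfsg.Spor

noncomputable def onv1_rrowT : ℕ → ℕ := (nd 2816 (nd 1280 (nd 512 (nd 256 onv1_rrowT_c0 onv1_rrowT_c1) (nd 768 onv1_rrowT_c2 (nd 1024 onv1_rrowT_c3 onv1_rrowT_c4))) (nd 2048 (nd 1536 onv1_rrowT_c5 (nd 1792 onv1_rrowT_c6 onv1_rrowT_c7)) (nd 2304 onv1_rrowT_c8 (nd 2560 onv1_rrowT_c9 onv1_rrowT_c10)))) (nd 4096 (nd 3328 (nd 3072 onv1_rrowT_c11 onv1_rrowT_c12) (nd 3584 onv1_rrowT_c13 (nd 3840 onv1_rrowT_c14 onv1_rrowT_c15))) (nd 4864 (nd 4352 onv1_rrowT_c16 (nd 4608 onv1_rrowT_c17 onv1_rrowT_c18)) (nd 5120 onv1_rrowT_c19 (nd 5376 onv1_rrowT_c20 onv1_rrowT_c21)))))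

noncomputable def onv1_circT_c0 : ℕ → List ON.Gen := (nd 25 (nd 12 (nd 6 (nd 3 (nd 1 (lf [.g]) (nd 2 (lf [.a, .e, .a, .e]) (lf [.b, .e, .b, .e]))) (nd 4 (lf [.c, .e, .c, .e]) (nd 5 (lf [.a, .d, .a, .d]) (lf [.b, .d, .b, .d])))) (nd 9 (nd 7 (lf [.e, .d, .e, .d, .e, .d]) (nd 8 (lf [.a, .f, .a, .f]) (lf [.b, .f, .b, .f]))) (nd 10 (lf [.c, .f, .c, .f]) (nd 11 (lf [.e, .f, .e, .f, .e, .f]) (lf [.a, .c, .a, .c]))))) (nd 18 (nd 15 (nd 13 (lf [.e, .c, .e, .c]) (nd 14 (lf [.d, .f, .d, .f]) (lf [.d, .d]))) (nd 16 (lf [.c, .b, .c, .b, .c, .b]) (nd 17 (lf [.e, .b, .e, .b]) (lf [.c, .c])))) (nd 21 (nd 19 (lf [.d, .e, .d, .e, .d, .e]) (nd 20 (lf [.f, .e, .f, .e, .f, .e]) (lf [.b, .a, .b, .a, .b, .a]))) (nd 23 (nd 22 (lf [.c, .a, .c, .a]) (lf [.e, .a, .e, .a])) (nd 24 (lf [.b, .b]) (lf [.d, .c, .d, .c, .d, .c, .a, .f, .d, .c])))))) (nd 38 (nd 31 (nd 28 (nd 26 (lf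 [.f, .d, .c, .d, .c, .d, .c, .d, .c, .a]) (nd 27 (lf [.f, .f]) (lf [.a, .a]))) (nd 29 (lf [.f, .d, .f, .d]) (nd 30 (lf [.f, .c, .f, .c]) (lf [.e, .e])))) (nd 34 (nd 32 (lf [.c, .d, .c, .d, .c, .d, .c, .a, .f, .d]) (nd 33 (lf [.d, .b, .d, .b]) (lf [.f, .b, .f, .b]))) (nd 36 (nd 35 (lf [.a, .b, .a, .b, .a, .b]) (lf [.c, .d, .c, .d, .c, .a, .f, .d, .c, .d])) (nd 37 (lf [.f, .a, .c, .d, .c, .d, .c, .d, .c, .d]) (lf [.d, .a, .d, .a]))))) (nd 44 (nd 41 (nd 39 (lf [.f, .a, .f, .a]) (nd 40 (lf [.c, .d, .c, .d, .c, .d, .c, .d, .c, .d, .c, .d, .c, .d, .c, .d]) (lf [.d, .c, .d, .c, .d, .c, .d, .c, .d, .c, .d, .c, .d, .c, .d, .c]))) (nd 42 (lf [.b, .c, .b, .c, .b, .c]) (nd 43 (lf [.d, .c, .d, .c, .d, .c, .d, .c, .a, .f]) (lf [.d, .f, .a, .c, .d, .c, .d, .c, .d, .c])))) (nd 47 (nd 45 (lf [.c, .d, .c, .a, .f, .d, .c, .d, .c, .d]) (nd 46 (lf [.c, .a, .f, .d, .c,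 .d, .c, .d, .c, .d]) (lf [.d, .c, .a, .f, .d, .c, .d, .c, .d, .c]))) (nd 49 (nd 48 (lf [.d, .c, .d, .f, .a, .c, .d, .c, .d, .c]) (lf [.a, .c, .d, .c, .d, .c, .d, .c, .d, .f])) (nd 50 (lf [.d, .c, .d, .c, .a, .f, .d, .c, .d, .c]) (lf [.a, .f, .d, .c, .d, .c, .d, .c, .d, .c])))))))
noncomputable def onv1_circT : ℕ → List ON.Gen := onv1_circT_c0
def onv1_ccert : List (ℕ × ℕ × Bool) := [(37, 0, false), (4, 0, false), (10, 0, false), (16, 0, false), (3, 0, false), (9, 0, false), (22, 1, false), (5, 0, false), (11, 0, false), (17, 0, false), (29, 0, false), (2, 0, false), (16, 1, false), (23, 0, false), (21, 0, false), (8, 1, false), (10, 1, false), (14, 0, false), (22, 0, false), (29, 1, false), (1, 1, false), (2, 1, false), (4, 1, false), (7, 0, false), (36, 4, false), (36, 1, false), (35, 0, false), (0, 0, false), (23, 1, false), (17, 1, false), (28,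 0, false), (36, 3, false), (9, 1, false), (11, 1, false), (1, 0, false), (36, 5, false), (36, 8, true), (3, 1, false), (5, 1, false), (15, 0, false), (15, 1, false), (8, 0, false), (36, 2, false), (36, 7, true), (36, 7, false), (36, 9, false), (36, 8, false), (36, 5, true), (36, 9, true), (36, 6, false), (36, 0, false)]
noncomputable def onv1_hc1T_c0 : ℕ → List ON.Gen := (nd 2 (nd 1 (lf [.a]) (lf [.b])) (nd 3 (lf [.c]) (nd 4 (lf [.d]) (lf [.f]))))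
noncomputable def onv1_hc1T : ℕ → List ON.Gen := onv1_hc1T_c0
noncomputable def onv1_hc2T_c0 : ℕ → List ON.Gen := (nd 2 (nd 1 (lf []) (lf [])) (nd 3 (lf []) (nd 4 (lf []) (lf []))))
noncomputable def onv1_hc2T : ℕ → List ON.Gen := onv1_hc2T_c0

noncomputable def onv1_rd : RData ON.Gen := ⟨wrapRow 5594 onv1_rrowT, 5594, 5586, on7_gi, on7_gof, on7_gens, circTab 51 onv1_circT, circTab 5 onv1_hc1T, circTab 5 onv1_hc2T, 2⟩
noncomputable def onv1_rf (p : ℕ) : Bool := onv1_rd.chk p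
def onv1_rsw : List (List ON.Gen) := [[.a], [.b], [.c], [.d], [.f]]

end Cfsg.Agent.H35
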